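import Mathlib
import Cfsg.Agent.Prune
set_option linter.all false
prune_inst 0x7f00000000000000000000000000000000000000000000000000000000000000000000000000000000000000000000000000000000000000000000000000000000000000000000000000000000000000003fffffffffffffffffffffffffffbeffbdffffffff
open scoped Cfsg.Agent.FastGrp

/-!
# The sign character of the automorphisms of a group on `U / [U, U]` (S4829, own characteristic; helper712)

* `eta F : Fˣ →* ℤˣ` : the sign of the multiplication by a unit; `eta_neg` : `-1` at the non-squares, `eta_sq` : `1` at the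
  squares (`F` of odd order);
* `stU U` : the stabilizer of `U` in `MulAut S`; `rsU U : stU U →* MulAut U`; `sgnAut U : MulAut U →* ℤˣ` : the sign of the
  permutation of `Abelianization U`; `sgnAb U : stU U →* ℂˣ`;
* `sgnAut_eq` : in coordinates `sgnAut τ = ∏ i, eta (a i)`.
-/

set_option autoImplicit false
set_option linter.style.haveILetI false
set_option linter.unusedSectionVars false

namespace Cfsg.Agent.H712.OC

/-! ### the sign of the multiplication by a unit -/

section Eta

variable (F : Type*) [Field F] [Finite F]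

/-- the sign of the permutation `x ↦ a x` -/
noncomputable def eta : Fˣ →* ℤˣ :=
  letI := Fintype.ofFinite F
  letI := Classical.decEq F
  Equiv.Perm.sign.comp (MulAction.toPermHom Fˣ F)

variable {F}

theorem eta_sq (a : Fˣ) : eta F (a ^ 2) = 1 := by
  rw [map_pow]
  exact Int.units_sq _

theorem eta_isSquare {a : Fˣ} (h : IsSquare (a : F)) : eta F a = 1 := by
  obtain ⟨b, hb⟩ := h
  have hb0 : b ≠ 0 := by
    rintro rfl
    rw [mul_zero] at hb
    exact a.ne_zero hb
  have : a = (Units.mk0 b hb0) ^ 2 := by
    apply Units.ext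
    rw [hb, Units.val_pow_eq_pow_val, Units.val_mk0, sq]
  rw [this, eta_sq]

/-- a generator acts by an odd permutation -/
theorem eta_gen (hF : Odd (Nat.card F)) {g : Fˣ} (hg : ∀ x : Fˣ, x ∈ Subgroup.zpowers g) : eta F g = -1 := by
  classical
  letI := Fintype.ofFinite F
  have hF' : Odd (Fintype.card F) := by rwa [← Nat.card_eq_fintype_card]
  have hcy : (MulAction.toPermHom Fˣ F g).IsCycle := by
    refine ⟨1, ?_, fun y hy => ?_⟩
    · intro h
      change g • (1 : F) = 1 at h
      rw [Units.smul_def, smul_eq_mul, mul_one] at h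
      have hg1 : g = 1 := Units.ext h
      have h3 : 1 < Fintype.card F := Fintype.one_lt_card
      have h4 : 3 ≤ Fintype.card F := by
        obtain ⟨k, hk⟩ := hF'
        omega
      have h5 : Fintype.card Fˣ = 1 := by
        rw [Fintype.card_eq_one_iff]
        refine ⟨1, fun y => ?_⟩
        have := hg y
        rw [hg1, Subgroup.zpowers_one_eq_bot, Subgroup.mem_bot] at this
        exact this
      rw [Fintype.card_units] at h5
      omega
    · have hy0 : y ≠ 0 := by
        rintro rfl
        apply hy
        change g • (0 : F) = 0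
        rw [smul_zero]
      obtain ⟨k, hk⟩ := hg (Units.mk0 y hy0)
      refine ⟨k, ?_⟩
      rw [← map_zpow]
      change (g ^ k) • (1 : F) = y
      have hk' : g ^ k = Units.mk0 y hy0 := hk
      rw [hk', Units.smul_def, smul_eq_mul, mul_one, Units.val_mk0]
  have hs : (MulAction.toPermHom Fˣ F g).support = Finset.univ.erase 0 := by
    ext y
    rw [Equiv.Perm.mem_support, Finset.mem_erase]
    constructor
    · intro h
      refine ⟨?_, Finset.mem_univ _⟩
      rintro rfl
      apply h
      change g • (0 : F) = 0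
      rw [smul_zero]
    · rintro ⟨h, -⟩ h2
      obtain ⟨x, hx, -⟩ := hcy
      change g • y = y at h2
      change g • x ≠ x at hx
      rw [Units.smul_def, smul_eq_mul] at h2 hx
      have h3 : (g : F) = 1 := by
        have := mul_right_cancel₀ (b := y) h (h2.trans (one_mul y).symm)
        exact this
      apply hx
      rw [h3, one_mul]
  have h1 := hcy.sign
  have h2 : (MulAction.toPermHom Fˣ F g).support.card = Fintype.card F - 1 := by
    rw [hs, Finset.card_erase_of_mem (Finset.mem_univ _), Finset.card_univ]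
  rw [h2] at h1
  have h3 : Even (Fintype.card F - 1) := by
    obtain ⟨k, hk⟩ := hF'
    exact ⟨k, by omega⟩
  rw [h3.neg_one_pow] at h1
  unfold eta
  rw [MonoidHom.comp_apply]
  convert h1 using 2

/-- a non-square acts by an odd permutation -/
theorem eta_neg (hF : Odd (Nat.card F)) {a : Fˣ} (ha : ¬ IsSquare (a : F)) : eta F a = -1 := by
  obtain ⟨g, hg⟩ := IsCyclic.exists_generator (α := Fˣ)
  obtain ⟨k, hk⟩ := hg a
  have hk' : g ^ k = a := hk
  have hodd : Odd k := by
    rcases Int.even_or_odd k with h | h
    · exfalso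
      obtain ⟨m, hm⟩ := h
      apply ha
      refine ⟨((g ^ m : Fˣ) : F), ?_⟩
      rw [← Units.val_mul, ← zpow_add, ← hm, hk']
    · exact h
  rw [← hk', map_zpow, eta_gen hF hg]
  exact hodd.neg_one_zpow

end Eta

/-! ### the sign of a diagonal matrix -/

section Diag

variable {ι : Type*} [Fintype ι] [DecidableEq ι] {F : ι → Type*} [∀ i, Field (F i)] [∀ i, Finite (F i)]

/-- the permutation of `∏ F i` -/
noncomputable def pe (a : ∀ i, (F i)ˣ) : Equiv.Perm (∀ i, F i) := Equiv.piCongrRight fun i => MulAction.toPermHom (F i)ˣ (F i) (a i)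

theorem pe_apply (a : ∀ i, (F i)ˣ) (v : ∀ i, F i) (i : ι) : pe a v i = (a i : F i) * v i := rfl

/-- as a homomorphism -/
noncomputable def peHom : (∀ i, (F i)ˣ) →* Equiv.Perm (∀ i, F i) where
  toFun := pe
  map_one' := by
    ext v i
    rw [pe_apply]
    simp
  map_mul' a b := by
    ext v i
    rw [Equiv.Perm.mul_apply, pe_apply, pe_apply, pe_apply, Pi.mul_apply, Units.val_mul, mul_assoc]

theorem sign_pe_single [Fintype (∀ i, F i)] [DecidableEq (∀ i, F i)] (hF : ∀ i, Odd (Nat.card (F i))) (i : ι) (a : (F i)ˣ) :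
    Equiv.Perm.sign (pe (Pi.mulSingle i a)) = eta (F i) a := by
  classical
  letI := fun i => Fintype.ofFinite (F i)
  -- the other coordinates
  let R := ∀ j : {j // j ≠ i}, F j
  let e : (∀ j, F j) ≃ R × F i := (Equiv.piSplitAt i F).trans (Equiv.prodComm _ _)
  have h1 : Equiv.Perm.sign (pe (Pi.mulSingle i a)) =
      Equiv.Perm.sign (Equiv.prodCongrRight (fun _ : R => MulAction.toPermHom (F i)ˣ (F i) a)) := by
    refine Equiv.Perm.sign_eq_sign_of_equiv _ _ e fun v => ?_
    refine Prod.ext ?_ ?_
    · funext j
      change pe (Pi.mulSingle i a) v j = v j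
      rw [pe_apply, Pi.mulSingle_eq_of_ne j.2, Units.val_one, one_mul]
    · change pe (Pi.mulSingle i a) v i = (a : F i) * v i
      rw [pe_apply, Pi.mulSingle_eq_same]
  rw [h1, Equiv.Perm.sign_prodCongrRight, Finset.prod_const, Finset.card_univ]
  have hR : Odd (Fintype.card R) := by
    rw [Fintype.card_pi]
    refine Finset.prod_induction _ Odd (fun _ _ => Odd.mul) odd_one fun j _ => ?_
    rw [← Nat.card_eq_fintype_card]
    exact hF j
  have h2 : Equiv.Perm.sign (MulAction.toPermHom (F i)ˣ (F i) a) = eta (F i) a := by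
    unfold eta
    rw [MonoidHom.comp_apply]
  rw [h2]
  rcases Int.units_eq_one_or (eta (F i) a) with h | h
  · rw [h, one_pow]
  · rw [h, hR.neg_one_pow]

theorem sign_pe [Fintype (∀ i, F i)] [DecidableEq (∀ i, F i)] (hF : ∀ i, Odd (Nat.card (F i))) (a : ∀ i, (F i)ˣ) :
    Equiv.Perm.sign (pe a) = ∏ i, eta (F i) (a i) := by
  have h1 : Equiv.Perm.sign (pe a) = (Equiv.Perm.sign.comp (peHom (F := F))) a := rfl
  rw [h1]
  conv_lhs => rw [← Finset.univ_prod_mulSingle a]
  rw [map_prod]
  refine Finset.prod_congr rfl fun i _ => ?_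
  exact sign_pe_single hF i (a i)

end Diag

/-! ### the sign of an automorphism on the abelianization -/

section Ab

variable {U : Type*} [Group U]

/-- the automorphism of the abelianization -/
noncomputable def abAut (U : Type*) [Group U] : MulAut U →* MulAut (Abelianization U) where
  toFun τ := τ.abelianizationCongr
  map_one' := by
    ext x
    obtain ⟨u, rfl⟩ := QuotientGroup.mk_surjective x
    rfl
  map_mul' τ τ' := by
    ext x
    obtain ⟨u, rfl⟩ := QuotientGroup.mk_surjective x
    rfl

theorem abAut_of (τ : MulAut U) (u : U) : abAut U τ (Abelianization.of u) = Abelianization.of (τ u) := rfl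

/-- the sign of the permutation of the abelianization -/
noncomputable def sgnAut (U : Type*) [Group U] [Finite U] : MulAut U →* ℤˣ :=
  letI := Fintype.ofFinite (Abelianization U)
  letI := Classical.decEq (Abelianization U)
  Equiv.Perm.sign.comp ((MulAut.toPerm (Abelianization U)).comp (abAut U))

/-- **the sign in coordinates** -/
theorem sgnAut_eq [Finite U] {ι : Type*} [Fintype ι] {F : ι → Type*} [∀ i, Field (F i)] [∀ i, Finite (F i)]
    (hF : ∀ i, Odd (Nat.card (F i))) (co : ∀ i, U →* Multiplicative (F i))
    (hsurj : ∀ c : ∀ i, F i, ∃ u, ∀ i, co i u = Multiplicative.ofAdd (c i))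
    (hker : ∀ f : U →* ℂˣ, ∀ u, (∀ i, co i u = 1) → f u = 1) (τ : MulAut U) (a : ∀ i, (F i)ˣ)
    (hτ : ∀ i u, co i (τ u) = Multiplicative.ofAdd ((a i : F i) * Multiplicative.toAdd (co i u))) :
    sgnAut U τ = ∏ i, eta (F i) (a i) := by
  classical
  letI := fun i => Fintype.ofFinite (F i)
  letI := Fintype.ofFinite (Abelianization U)
  have hf : Function.Bijective (fun (x : Abelianization U) (i : ι) =>
      Multiplicative.toAdd (Abelianization.lift (co i) x)) := by
    constructor
    · intro x y hxy
      have hxy' : ∀ i, Abelianization.lift (co i) x = Abelianization.lift (co i) y := fun i => congrFun hxy i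
      by_contra hne
      have hne' : x * y⁻¹ ≠ 1 := fun h => hne (mul_inv_eq_one.1 h)
      obtain ⟨φ, hφ⟩ := CommGroup.exists_apply_ne_one_of_hasEnoughRootsOfUnity (Abelianization U) ℂ hne'
      obtain ⟨u, hu⟩ := QuotientGroup.mk_surjective (x * y⁻¹)
      apply hφ
      have hu' : Abelianization.of u = x * y⁻¹ := hu
      rw [← hu']
      have := hker (φ.comp Abelianization.of) u fun i => by
        have h1 : co i u = Abelianization.lift (co i) (x * y⁻¹) := by
          rw [← hu', Abelianization.lift_apply_of]
        rw [h1, map_mul, map_inv, hxy' i, mul_inv_cancel]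
      exact this
    · intro c
      obtain ⟨u, hu⟩ := hsurj c
      refine ⟨Abelianization.of u, ?_⟩
      funext i
      change Multiplicative.toAdd (Abelianization.lift (co i) (Abelianization.of u)) = c i
      rw [Abelianization.lift_apply_of, hu i]
      rfl
  let e := Equiv.ofBijective _ hf
  have h1 : sgnAut U τ = Equiv.Perm.sign (pe a) := by
    have h2 : sgnAut U τ = Equiv.Perm.sign (MulAut.toPerm (Abelianization U) (abAut U τ)) := by
      unfold sgnAut
      rw [MonoidHom.comp_apply, MonoidHom.comp_apply]
    rw [h2]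
    refine Equiv.Perm.sign_eq_sign_of_equiv _ _ e fun x => ?_
    obtain ⟨u, rfl⟩ := QuotientGroup.mk_surjective x
    funext i
    change Multiplicative.toAdd (co i (τ u)) = (a i : F i) * Multiplicative.toAdd (co i u)
    rw [hτ]
    rfl
  rw [h1, sign_pe hF]

end Ab

/-! ### the character of the stabilizer -/

section Stab

variable {S : Type*} [Group S]

/-- the stabilizer of `U` -/
def stU (U : Subgroup S) : Subgroup (MulAut S) where
  carrier := {a | ∀ x, a x ∈ U ↔ x ∈ U}
  one_mem' := fun _ => Iff.rfl
  mul_mem' {a b} ha hb x := by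
    rw [MulAut.mul_apply]
    exact (ha _).trans (hb x)
  inv_mem' {a} ha x := by
    have := ha (a⁻¹ x)
    rw [MulAut.apply_inv_self] at this
    exact this.symm

theorem mem_stU {U : Subgroup S} {a : MulAut S} : a ∈ stU U ↔ ∀ x, a x ∈ U ↔ x ∈ U := Iff.rfl

/-- the restriction to `U` -/
def rsU (U : Subgroup S) : stU U →* MulAut U where
  toFun a :=
    { toFun := fun x => ⟨(a : MulAut S) x, (a.2 x).2 x.2⟩
      invFun := fun x => ⟨((a : MulAut S))⁻¹ x, ((stU U).inv_mem a.2 x).2 x.2⟩
      left_inv := fun _ => Subtype.ext (MulAut.inv_apply_self _ _ _)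
      right_inv := fun _ => Subtype.ext (MulAut.apply_inv_self _ _ _)
      map_mul' := fun x y => Subtype.ext (map_mul (a : MulAut S) (x : S) (y : S)) }
  map_one' := rfl
  map_mul' _ _ := rfl

theorem rsU_apply {U : Subgroup S} (a : stU U) (x : U) : ((rsU U a x : U) : S) = (a : MulAut S) x := rfl

/-- the sign character of the stabilizer -/
noncomputable def sgnAb (U : Subgroup S) [Finite U] : stU U →* ℂˣ :=
  (Units.map (Int.castRingHom ℂ : ℤ →* ℂ)).comp ((sgnAut U).comp (rsU U))

theorem sgnAb_apply (U : Subgroup S) [Finite U] (a : stU U) :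
    ((sgnAb U a : ℂˣ) : ℂ) = ((sgnAut U (rsU U a) : ℤˣ) : ℤ) := rfl

theorem sgnAb_or (U : Subgroup S) [Finite U] (a : stU U) : ((sgnAb U a : ℂˣ) : ℂ) = 1 ∨ ((sgnAb U a : ℂˣ) : ℂ) = -1 := by
  rw [sgnAb_apply]
  rcases Int.units_eq_one_or (sgnAut U (rsU U a)) with h | h <;> rw [h]
  · left; simp
  · right; simp

theorem sgnAb_sq (U : Subgroup S) [Finite U] (a : stU U) : sgnAb U a ^ 2 = 1 := by
  apply Units.ext
  rcases sgnAb_or U a with h | h <;> simp [h]

end Stab

end Cfsg.Agent.H712.OC

private theorem dce_ccac9bc35a3b : _root_.True := by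
  try have : _root_.True := by simp only [_root_.Cfsg.Agent.H712.OC.sgnAb.congr_simp]
  exact _root_.True.intro
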